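/-
Checks on the tables of type E8.
-/
import Cfsg.Agent.Chevalley.DataE8.Tab

set_option autoImplicit false
set_option maxRecDepth 100000
set_option Elab.async false

namespace Cfsg.Agent.Chevalley.E8

open Cfsg.Lie

theorem chkSimple : tab.chkSimple chevE8 = true := by decide +kernel

theorem chkPos : tab.chkPos chevE8 = true := by decide +kernel

theorem chkThird : Tab.chkThird chevE8 = true := by decide +kernel

theorem rowsAll_0 : (List.range' 0 60).all (tab.rowAt chevE8) = true := by decide +kernel

theorem rowsAll_1 : (List.range' 60 60).all (tab.rowAt chevE8) = true := by decide +kernel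

theorem rowsAll_2 : (List.range' 120 60).all (tab.rowAt chevE8) = true := by decide +kernel

theorem rowsAll_3 : (List.range' 180 60).all (tab.rowAt chevE8) = true := by decide +kernel

theorem rowsAll : (List.range 240).all (tab.rowAt chevE8) = true :=
  (Tab.all_range_split (a := 180) (b := 60) (Tab.all_range_split (a := 120) (b := 60) (Tab.all_range_split (a := 60) (b := 60) (List.range_eq_range' (n := 60) ▸ rowsAll_0 : (List.range 60).all (tab.rowAt chevE8) = true)
    rowsAll_1)
    rowsAll_2)
    rowsAll_3)

theorem chkRows : tab.chkRows chevE8 = true :=
  Tab.chkRows_of (by decide +kernel) rowsAll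

end Cfsg.Agent.Chevalley.E8
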