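/-
Checks for a fundamental reflection of type E8.
-/
import Cfsg.Agent.Chevalley.DataE8.Tab

set_option autoImplicit false
set_option maxRecDepth 100000
set_option Elab.async false

namespace Cfsg.Agent.Chevalley.E8

open Cfsg.Lie

theorem wAll0_0 : (List.range' 0 60).all (tab.wAt chevE8 0) = true := by decide +kernel

theorem wAll0_1 : (List.range' 60 60).all (tab.wAt chevE8 0) = true := by decide +kernel

theorem wAll0_2 : (List.range' 120 60).all (tab.wAt chevE8 0) = true := by decide +kernel

theorem wAll0_3 : (List.range' 180 60).all (tab.wAt chevE8 0) = true := by decide +kernel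

theorem wAll0 : (List.range 240).all (tab.wAt chevE8 0) = true :=
  (Tab.all_range_split (a := 180) (b := 60) (Tab.all_range_split (a := 120) (b := 60) (Tab.all_range_split (a := 60) (b := 60) (List.range_eq_range' (n := 60) ▸ wAll0_0 : (List.range 60).all (tab.wAt chevE8 0) = true)
    wAll0_1)
    wAll0_2)
    wAll0_3)

theorem chkW0 : tab.chkW chevE8 0 = true := wAll0

theorem chainAll0_0 : (List.range' 0 60).all (tab.chainWAt chevE8 0) = true := by decide +kernel

theorem chainAll0_1 : (List.range' 60 60).all (tab.chainWAt chevE8 0) = true := by decide +kernel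

theorem chainAll0_2 : (List.range' 120 60).all (tab.chainWAt chevE8 0) = true := by decide +kernel

theorem chainAll0_3 : (List.range' 180 60).all (tab.chainWAt chevE8 0) = true := by decide +kernel

theorem chainAll0 : (List.range 240).all (tab.chainWAt chevE8 0) = true :=
  (Tab.all_range_split (a := 180) (b := 60) (Tab.all_range_split (a := 120) (b := 60) (Tab.all_range_split (a := 60) (b := 60) (List.range_eq_range' (n := 60) ▸ chainAll0_0 : (List.range 60).all (tab.chainWAt chevE8 0) = true)
    chainAll0_1)
    chainAll0_2)
    chainAll0_3)

theorem chkChainW0 : tab.chkChainW chevE8 0 = true := chainAll0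

theorem chkN0 : tab.chkN chevE8 0 = true := by decide +kernel

end Cfsg.Agent.Chevalley.E8
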