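/-
Checks on the roots of type E8.
-/
import Cfsg.Agent.Chevalley.DataE8.Tab

set_option autoImplicit false
set_option maxRecDepth 100000
set_option Elab.async false

namespace Cfsg.Agent.Chevalley.E8

open Cfsg.Lie

theorem rootsAll_0 : (List.range' 0 30).all (tab.rootAt chevE8) = true := by decide +kernel

theorem rootsAll_1 : (List.range' 30 30).all (tab.rootAt chevE8) = true := by decide +kernel

theorem rootsAll_2 : (List.range' 60 30).all (tab.rootAt chevE8) = true := by decide +kernel

theorem rootsAll_3 : (List.range' 90 30).all (tab.rootAt chevE8) = true := by decide +kernel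

theorem rootsAll_4 : (List.range' 120 30).all (tab.rootAt chevE8) = true := by decide +kernel

theorem rootsAll_5 : (List.range' 150 30).all (tab.rootAt chevE8) = true := by decide +kernel

theorem rootsAll_6 : (List.range' 180 30).all (tab.rootAt chevE8) = true := by decide +kernel

theorem rootsAll_7 : (List.range' 210 30).all (tab.rootAt chevE8) = true := by decide +kernel

theorem rootsAll : (List.range 240).all (tab.rootAt chevE8) = true :=
  (Tab.all_range_split (a := 210) (b := 30) (Tab.all_range_split (a := 180) (b := 30) (Tab.all_range_split (a := 150) (b := 30) (Tab.all_range_split (a := 120) (b := 30) (Tab.all_range_split (a := 90) (b := 30) (Tab.all_range_split (a := 60) (b := 30) (Tab.all_range_split (a := 30) (b := 30) (List.range_eq_range' (n := 30) ▸ rootsAll_0 : (List.range 30).all (tab.rootAt chevE8) = true)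
    rootsAll_1)
    rootsAll_2)
    rootsAll_3)
    rootsAll_4)
    rootsAll_5)
    rootsAll_6)
    rootsAll_7)

theorem chkRoots : tab.chkRoots chevE8 = true :=
  Tab.chkRoots_of (by decide +kernel) rootsAll

end Cfsg.Agent.Chevalley.E8
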