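/-
Checks at the highest root of type E8.
-/
import Cfsg.Agent.Chevalley.DataE8.Tab

set_option autoImplicit false
set_option maxRecDepth 100000
set_option Elab.async false

namespace Cfsg.Agent.Chevalley.E8

open Cfsg.Lie

theorem chkAdd : tab.chkAdd chevE8 = true := by decide +kernel

theorem topEq : (List.range 240).all (fun r => !(tab.isTop chevE8 r) || r == 239) = true := by
  decide +kernel

theorem commAll_0 : (List.range' 0 30).all (tab.commAt chevE8 239) = true := by decide +kernel

theorem commAll_1 : (List.range' 30 30).all (tab.commAt chevE8 239) = true := by decide +kernel

theorem commAll_2 : (List.range' 60 30).all (tab.commAt chevE8 239) = true := by decide +kernel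

theorem commAll_3 : (List.range' 90 30).all (tab.commAt chevE8 239) = true := by decide +kernel

theorem commAll_4 : (List.range' 120 30).all (tab.commAt chevE8 239) = true := by decide +kernel

theorem commAll_5 : (List.range' 150 30).all (tab.commAt chevE8 239) = true := by decide +kernel

theorem commAll_6 : (List.range' 180 30).all (tab.commAt chevE8 239) = true := by decide +kernel

theorem commAll_7 : (List.range' 210 30).all (tab.commAt chevE8 239) = true := by decide +kernel

theorem commAll : (List.range 240).all (tab.commAt chevE8 239) = true :=
  (Tab.all_range_split (a := 210) (b := 30) (Tab.all_range_split (a := 180) (b := 30) (Tab.all_range_split (a := 150) (b := 30) (Tab.all_range_split (a := 120) (b := 30) (Tab.all_range_split (a := 90) (b := 30) (Tab.all_range_split (a := 60) (b := 30) (Tab.all_range_split (a := 30) (b := 30) (List.range_eq_range' (n := 30) ▸ commAll_0 : (List.range 30).all (tab.commAt chevE8 239) = true)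
    commAll_1)
    commAll_2)
    commAll_3)
    commAll_4)
    commAll_5)
    commAll_6)
    commAll_7)

theorem chkComm : tab.chkComm chevE8 = true :=
  Tab.chkComm_of fun r hr htop => by
    have h := List.all_eq_true.1 topEq r (List.mem_range.2 hr)
    rw [htop] at h
    have h' : r = 239 := by simpa using h
    subst h'
    exact commAll

end Cfsg.Agent.Chevalley.E8
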